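import Mathlib
import Groth.Agent.Lib.Helper5.TorAmp.Rep
import Groth.Agent.Lib.Helper5.TorAmp.TorRes
import Groth.Prelude.Def_DRing2
import Groth.Prelude.Def_DDual2
import Groth.Prelude.Def_Hensel
import Groth.Agent.Lib.Helper8.HensWE1

set_option linter.style.haveILetI false
set_option linter.unusedVariables false
set_option linter.unusedSectionVars false
set_option autoImplicit false
set_option backward.isDefEq.respectTransparency.types false
set_option synthInstance.maxHeartbeats 400000
set_option maxHeartbeats 800000

universe u

/-! helper7: helper7: tor amplitude is reflected by restriction of scalars along weakly etale maps; (strict) henselization case (S1292) -/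

open CategoryTheory Limits Pretriangulated DerivedCategory
attribute [local instance] HasDerivedCategory.standard

namespace Groth.Agent.Helper7.TorHens

open Groth.Agent.Helper5.TorAmp Groth.Agent.Helper5.FlatAcyc

section trunc

variable {R : Type u} [CommRing R]

/-- flat truncation with flatness of the cokernel as a hypothesis -/
theorem hasTorAmplitudeIn_of_flat_opcycles {a b : ℤ} (P : DRing.Cx R)
    (hflat : DRing.TermwiseFlat P) (hb : DRing.VanishesAbove P b) (hGE : P.IsGE a)
    (hop : Module.Flat R (P.opcycles a)) :
    DRing.HasTorAmplitudeIn R a b (DRing.toD P) := by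
  have hq : QuasiIso (P.πTruncGE a) := inferInstance
  refine ⟨P.truncGE a, ?_, ?_, ⟨(asIso (Q.map (P.πTruncGE a))).symm⟩⟩
  · intro i hi
    rcases hi with hi | hi
    · exact (P.truncGE a).isZero_of_isStrictlyGE a i hi
    · rcases lt_trichotomy i a with h1 | h1 | h1
      · exact (P.truncGE a).isZero_of_isStrictlyGE a i h1
      · subst h1
        exact (isZero_opcycles_of_isZero P i (hb i hi)).of_iso (P.truncGEXIsoOpcycles i)
      · exact (hb i hi).of_iso (P.truncGEXIso a i h1)
  · intro i
    rcases lt_trichotomy i a with h1 | h1 | h1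
    · have : Subsingleton ((P.truncGE a).X i) :=
        ModuleCat.subsingleton_of_isZero ((P.truncGE a).isZero_of_isStrictlyGE a i h1)
      infer_instance
    · subst h1
      exact Module.Flat.of_linearEquiv (P.truncGEXIsoOpcycles i).toLinearEquiv
    · have := hflat i
      exact Module.Flat.of_linearEquiv (P.truncGEXIso a i h1).toLinearEquiv

end trunc

section restrict

variable {A B : Type u} [CommRing A] [CommRing B] [Algebra A B]

/-- restriction of scalars reflects exactness of complexes -/
theorem exactAt_of_restrict (P : DRing.Cx B) (i : ℤ)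
    (h : (((ModuleCat.restrictScalars.{u} (algebraMap A B)).mapHomologicalComplex
      (ComplexShape.up ℤ)).obj P).ExactAt i) : P.ExactAt i := by
  have h' : ((P.sc i).map (ModuleCat.restrictScalars.{u} (algebraMap A B))).Exact := h
  exact (ShortComplex.exact_map_iff_of_faithful _ _).mp h'

/-- restriction of scalars commutes with the cokernels of the differentials -/
noncomputable def opcyclesRestrictIso (P : DRing.Cx B) (a : ℤ) :
    (((ModuleCat.restrictScalars.{u} (algebraMap A B)).mapHomologicalComplex
      (ComplexShape.up ℤ)).obj P).opcycles a ≅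
      (ModuleCat.restrictScalars.{u} (algebraMap A B)).obj (P.opcycles a) :=
  (P.sc a).mapOpcyclesIso (ModuleCat.restrictScalars.{u} (algebraMap A B))

/-- restriction of scalars reflects being cohomologically bounded above -/
theorem isLE_of_restrict (K : Dual.D B) (b : ℤ)
    (h : ((DRing.restrictD (algebraMap A B)).obj K).IsLE b) : K.IsLE b := by
  let F := ModuleCat.restrictScalars.{u} (algebraMap A B)
  let P₀ := Q.objPreimage K
  have e₀ : Q.obj P₀ ≅ K := Q.objObjPreimageIso K
  have e₁ : Q.obj ((F.mapHomologicalComplex (ComplexShape.up ℤ)).obj P₀) ≅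
      (DRing.restrictD (algebraMap A B)).obj K :=
    (F.mapDerivedCategoryFactors.app P₀).symm ≪≫ (DRing.restrictD (algebraMap A B)).mapIso e₀
  have h1 : (Q.obj ((F.mapHomologicalComplex (ComplexShape.up ℤ)).obj P₀)).IsLE b :=
    TStructure.t.isLE_of_iso e₁.symm b
  rw [isLE_Q_obj_iff, CochainComplex.isLE_iff] at h1
  have h2 : P₀.IsLE b := by
    rw [CochainComplex.isLE_iff]
    intro i hi
    exact exactAt_of_restrict P₀ i (h1 i hi)
  have h3 : (Q.obj P₀).IsLE b := inferInstance
  exact TStructure.t.isLE_of_iso e₀ b

/-- **Tor amplitude is reflected by restriction of scalars along a flat map along which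
flatness over the base implies flatness over the algebra** (for instance a weakly étale map). -/
theorem hasTorAmplitudeIn_of_restrict [Module.Flat A B]
    (hfl : ∀ (N : Type u) [AddCommGroup N] [Module B N] [Module A N] [IsScalarTower A B N],
      Module.Flat A N → Module.Flat B N)
    (K : Dual.D B) (a b : ℤ)
    (h : DRing.HasTorAmplitudeIn A a b ((DRing.restrictD (algebraMap A B)).obj K)) :
    DRing.HasTorAmplitudeIn B a b K := by
  let F := ModuleCat.restrictScalars.{u} (algebraMap A B)
  haveI hKle : K.IsLE b := isLE_of_restrict K b (isLE_of_hasTorAmplitudeIn h)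
  obtain ⟨P, hPb, hproj, hKP, ⟨e⟩⟩ := exists_proj_rep K b
  have hflatB : DRing.TermwiseFlat P := termwiseFlat_of_projective P hproj
  have hflatA : DRing.TermwiseFlat ((F.mapHomologicalComplex (ComplexShape.up ℤ)).obj P) :=
    fun i => by
      have := hflatB i
      have h2 : Module.Flat B (F.obj (P.X i)) := inferInstanceAs (Module.Flat B (P.X i))
      exact Module.Flat.trans A B (F.obj (P.X i))
  have hPbA : DRing.VanishesAbove ((F.mapHomologicalComplex (ComplexShape.up ℤ)).obj P) b :=
    fun i hi => F.map_isZero (hPb i hi)
  have eA : DRing.toD ((F.mapHomologicalComplex (ComplexShape.up ℤ)).obj P) ≅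
      (DRing.restrictD (algebraMap A B)).obj K :=
    (F.mapDerivedCategoryFactors.app P).symm ≪≫ (DRing.restrictD (algebraMap A B)).mapIso e
  have hTV : TorVan a b ((F.mapHomologicalComplex (ComplexShape.up ℤ)).obj P) :=
    (hasTorAmplitudeIn_iff' _ hflatA b hPbA eA a b).mp h
  have hGE : P.IsGE a := by
    rw [CochainComplex.isGE_iff]
    intro i hi
    exact exactAt_of_restrict P i (hTV.exactAt i (Or.inl hi))
  have hopA : Module.Flat A (((F.mapHomologicalComplex (ComplexShape.up ℤ)).obj P).opcycles a) :=
    flat_opcycles _ hflatA a (hTV.exactAt _ (Or.inl (by omega)))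
      (fun I => hTV _ _ (Or.inl (by omega)))
  have hopA' : Module.Flat A (F.obj (P.opcycles a)) := by
    haveI := hopA
    exact Module.Flat.of_linearEquiv (opcyclesRestrictIso (A := A) P a).symm.toLinearEquiv
  have hop : Module.Flat B (P.opcycles a) :=
    hfl (F.obj (P.opcycles a)) hopA'
  exact hasTorAmplitudeIn_of_iso e (hasTorAmplitudeIn_of_flat_opcycles P hflatB hPb hGE hop)

end restrict

section weakly

variable (A B : Type u) [CommRing A] [CommRing B] [Algebra A B]

/-- tor amplitude over a weakly étale algebra can be tested after restriction of scalars -/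
theorem hasTorAmplitudeIn_restrict_iff_of_weaklyEtale [Algebra.WeaklyEtale A B] (K : Dual.D B)
    (a b : ℤ) :
    DRing.HasTorAmplitudeIn A a b ((DRing.restrictD (algebraMap A B)).obj K) ↔
      DRing.HasTorAmplitudeIn B a b K := by
  constructor
  · intro h
    refine hasTorAmplitudeIn_of_restrict (A := A) (B := B) ?_ K a b h
    intro N _ _ _ _ hN
    haveI := hN
    exact Helper5.WEt.flat_of_flat_lmul' A B (Algebra.WeaklyEtale.flat_lmul' A B) N
  · intro h
    have hB : DRing.HasTorAmplitudeIn A (-((0 : ℕ) : ℤ)) 0 (Dual.inD A B) := by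
      rw [Nat.cast_zero, neg_zero]
      exact hasTorAmplitudeIn_single_of_flat (ModuleCat.of A B)
    have h2 := Groth.Agent.Helper5.TorRes.s6947 0 hB K a b h
    rw [Nat.cast_zero, sub_zero] at h2
    exact h2

end weakly

section main

open IsLocalRing

/-- **Tor amplitude over the henselization and the strict henselization.** -/
theorem S1292_main {A : Type u} [CommRing A] (p : Ideal A) [p.IsPrime]
    (Ah Ash : Type u) [CommRing Ah] [IsLocalRing Ah] [CommRing Ash] [IsLocalRing Ash]
    [Algebra (Localization.AtPrime p) Ah] [IsLocalHom (algebraMap (Localization.AtPrime p) Ah)]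
    [Hensel.IsHenselization (Localization.AtPrime p) Ah]
    [Algebra (Localization.AtPrime p) Ash] [IsLocalHom (algebraMap (Localization.AtPrime p) Ash)]
    [Hensel.IsStrictHenselization (Localization.AtPrime p) Ash]
    [Algebra Ah Ash] [IsScalarTower (Localization.AtPrime p) Ah Ash]
    (a b : ℤ) (K : Dual.D Ash) (L : Dual.D Ah) :
    [DRing.HasTorAmplitudeIn (Localization.AtPrime p) a b
        ((DRing.restrictD (algebraMap (Localization.AtPrime p) Ash)).obj K),
     DRing.HasTorAmplitudeIn Ah a b ((DRing.restrictD (algebraMap Ah Ash)).obj K),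
     DRing.HasTorAmplitudeIn Ash a b K].TFAE ∧
    (DRing.HasTorAmplitudeIn (Localization.AtPrime p) a b
        ((DRing.restrictD (algebraMap (Localization.AtPrime p) Ah)).obj L) ↔
      DRing.HasTorAmplitudeIn Ah a b L) := by
  haveI := Groth.Agent.Helper8.HensWE.weaklyEtale_henselization (Localization.AtPrime p) Ah
  haveI := Groth.Agent.Helper8.HensWE.weaklyEtale_strictHenselization (Localization.AtPrime p) Ash
  haveI : Algebra.WeaklyEtale Ah Ash :=
    Helper5.WEt.weaklyEtale_of_algHom (Localization.AtPrime p) Ah Ash
  refine ⟨?_, hasTorAmplitudeIn_restrict_iff_of_weaklyEtale (Localization.AtPrime p) Ah L a b⟩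
  have h13 := hasTorAmplitudeIn_restrict_iff_of_weaklyEtale (Localization.AtPrime p) Ash K a b
  have h23 := hasTorAmplitudeIn_restrict_iff_of_weaklyEtale Ah Ash K a b
  tfae_have 1 ↔ 3 := h13
  tfae_have 2 ↔ 3 := h23
  tfae_finish

end main

end Groth.Agent.Helper7.TorHens
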